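import Groth.Agent.ProjBC35.AwayPushout
import Groth.Prelude.Def_CohB1
import Mathlib.AlgebraicGeometry.ProjectiveSpectrum.Functor
import Mathlib.RingTheory.Algebraic.Integral

/-! Base change of projective space over rings. -/

noncomputable section

set_option backward.isDefEq.respectTransparency false

universe u

open CategoryTheory CategoryTheory.Limits AlgebraicGeometry HomogeneousLocalization
open scoped HomogeneousIdeal

namespace Groth.Agent.ZH85.ProjSpaceBC

open Groth.Agent.ProjBC35 CohB1

variable (n : ℕ) {R R' : Type u} [CommRing R] [CommRing R'] (g : R →+* R')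

/-- The graded change of coefficients. -/
def gmap : polyGrading n R →+*ᵍ polyGrading n R' :=
  { MvPolynomial.map g with map_mem := fun {_ _} h => MvPolynomial.IsHomogeneous.map h g }

theorem C_mem (R : Type u) [CommRing R] (r : R) :
    (MvPolynomial.C : R →+* MvPolynomial (Fin (n + 1)) R) r ∈ polyGrading n R 0 :=
  MvPolynomial.isHomogeneous_C _ _

theorem isPushout_map : IsPushout (CommRingCat.ofHom g)
    (CommRingCat.ofHom (MvPolynomial.C : R →+* MvPolynomial (Fin (n + 1)) R))
    (CommRingCat.ofHom (MvPolynomial.C : R' →+* MvPolynomial (Fin (n + 1)) R'))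
    (CommRingCat.ofHom ((gmap n g : _ →+*ᵍ _) : MvPolynomial (Fin (n + 1)) R →+* MvPolynomial (Fin (n + 1)) R')) := by
  let := g.toAlgebra
  let : Algebra (MvPolynomial (Fin (n + 1)) R) (MvPolynomial (Fin (n + 1)) R') :=
    (MvPolynomial.map g).toAlgebra
  have : IsScalarTower R (MvPolynomial (Fin (n + 1)) R) (MvPolynomial (Fin (n + 1)) R') :=
    IsScalarTower.of_algebraMap_eq fun r => (MvPolynomial.map_C g r).symm
  exact CommRingCat.isPushout_of_isPushout R R' (MvPolynomial (Fin (n + 1)) R) (MvPolynomial (Fin (n + 1)) R')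

theorem irrelevant_le : (polyGrading n R')₊ ≤ ((polyGrading n R)₊).map (gmap n g) :=
  irrelevant_le_map g MvPolynomial.C MvPolynomial.C (C_mem n R') _ (isPushout_map n g)

theorem awayι_toSpec (R : Type u) [CommRing R] {d : ℕ} (hd : 0 < d) (f : MvPolynomial (Fin (n + 1)) R)
    (hf : f ∈ polyGrading n R d) :
    Proj.awayι (polyGrading n R) f hf hd ≫ ProjSpace.toSpec n R =
      Spec.map (CommRingCat.ofHom (baseToAway MvPolynomial.C (C_mem n R) f)) := by
  rw [ProjSpace.toSpec, Proj.awayι_toSpecZero_assoc, ← Spec.map_comp, ← CommRingCat.ofHom_comp]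
  congr 2

/-- Change of coefficients on projective space. -/
def bc : ProjSpace n R' ⟶ ProjSpace n R := Proj.map (gmap n g) (irrelevant_le n g)

theorem bc_toSpec : bc n g ≫ ProjSpace.toSpec n R = ProjSpace.toSpec n R' ≫ Spec.map (CommRingCat.ofHom g) := by
  refine (Proj.mapAffineOpenCover (gmap n g) (irrelevant_le n g)).openCover.hom_ext _ _ fun s => ?_
  simp only [Scheme.AffineOpenCover.openCover_f, Proj.mapAffineOpenCover_f]
  rw [bc, Proj.awayι_comp_map_assoc (gmap n g) _ s.1.2 _ s.2.2, awayι_toSpec, ← Category.assoc,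
    awayι_toSpec, ← Spec.map_comp, ← Spec.map_comp, ← CommRingCat.ofHom_comp, ← CommRingCat.ofHom_comp]
  congr 2
  exact (RingHom.ext fun r => baseToAway_map g MvPolynomial.C (C_mem n R) MvPolynomial.C (C_mem n R') (gmap n g)
    (fun r => (MvPolynomial.map_C g r).symm) r).symm

/-- **Base change of projective space.** -/
theorem isPullback_bc :
    IsPullback (bc n g) (ProjSpace.toSpec n R') (ProjSpace.toSpec n R) (Spec.map (CommRingCat.ofHom g)) := by
  let t := ProjSpace.toSpec n R
  let G := Spec.map (CommRingCat.ofHom g)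
  let k : ProjSpace n R' ⟶ pullback t G := pullback.lift (bc n g) (ProjSpace.toSpec n R') (bc_toSpec n g)
  suffices IsIso k from IsPullback.of_iso_pullback ⟨bc_toSpec n g⟩ (asIso k) (pullback.lift_fst _ _ _)
    (pullback.lift_snd _ _ _)
  let 𝒰 := Scheme.Pullback.openCoverOfLeft (Proj.affineOpenCover (polyGrading n R)).openCover t G
  refine IsZariskiLocalAtTarget.of_openCover (P := MorphismProperty.isomorphisms Scheme.{u}) 𝒰 fun i => ?_
  let hs : (i.2 : MvPolynomial (Fin (n + 1)) R) ∈ polyGrading n R (i.1 : ℕ) := i.2.2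
  let a := Proj.awayι (polyGrading n R) (i.2 : MvPolynomial (Fin (n + 1)) R) hs i.1.2
  let b := Proj.awayι (polyGrading n R') (gmap n g i.2) ((gmap n g).2 hs) i.1.2
  have hout : IsPullback (Spec.map (CommRingCat.ofHom (Away.map (gmap n g) (i.2 : MvPolynomial (Fin (n + 1)) R))))
      (Spec.map (CommRingCat.ofHom (baseToAway MvPolynomial.C (C_mem n R') (gmap n g i.2)))) (a ≫ t) G := by
    rw [awayι_toSpec]
    exact (isPullback_SpecMap_of_isPushout _ _ _ _
      (isPushout_away g MvPolynomial.C (C_mem n R) MvPolynomial.C (C_mem n R') _ hs (isPushout_map n g))).flip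
  let m : pullback (a ≫ t) G ⟶ pullback t G :=
    pullback.map (a ≫ t) G t G a (𝟙 _) (𝟙 _) (by simp) (by simp)
  have hsq : IsPullback (Spec.map (CommRingCat.ofHom (Away.map (gmap n g) (i.2 : MvPolynomial (Fin (n + 1)) R))))
      b a (bc n g) := by
    refine IsOpenImmersion.isPullback _ _ _ _ (Proj.awayι_comp_map (gmap n g) _ i.1.2 _ hs) ?_
    rw [Proj.opensRange_awayι, Proj.opensRange_awayι]
    exact Proj.map_preimage_basicOpen _ _ _
  have hright : IsPullback (pullback.fst (a ≫ t) G) m a (pullback.fst t G) := by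
    refine IsPullback.of_bot ?_ (pullback.lift_fst _ _ _).symm (IsPullback.of_hasPullback t G)
    rw [show m ≫ pullback.snd t G = pullback.snd (a ≫ t) G from (pullback.lift_snd _ _ _).trans (Category.comp_id _)]
    exact IsPullback.of_hasPullback _ _
  have hk : hout.isoPullback.hom ≫ m = b ≫ k := by
    apply pullback.hom_ext
    · simp only [Category.assoc, m, k, pullback.lift_fst, IsPullback.isoPullback_hom_fst_assoc]
      exact hsq.w
    · simp only [Category.assoc, m, k, pullback.lift_snd, Category.comp_id, IsPullback.isoPullback_hom_snd]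
      exact (awayι_toSpec n R' i.1.2 _ ((gmap n g).2 hs)).symm
  have hleft : IsPullback hout.isoPullback.hom b m k := by
    refine IsPullback.of_right ?_ hk hright
    rw [IsPullback.isoPullback_hom_fst]
    rw [show k ≫ pullback.fst t G = bc n g from pullback.lift_fst _ _ _]
    exact hsq
  show MorphismProperty.isomorphisms Scheme.{u} (pullback.snd k (𝒰.f i))
  have h2 : IsIso (pullback.snd k m) := by
    rw [← hleft.flip.isoPullback_inv_snd]
    infer_instance
  exact h2

theorem isIso_lift :
    IsIso (pullback.lift (bc n g) (ProjSpace.toSpec n R') (bc_toSpec n g) :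
      ProjSpace n R' ⟶ pullback (ProjSpace.toSpec n R) (Spec.map (CommRingCat.ofHom g))) :=
  inferInstanceAs (IsIso (isPullback_bc n g).isoPullback.hom)

end Groth.Agent.ZH85.ProjSpaceBC
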