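import Groth.Agent.NodeLib.Basic
import Groth.Agent.S0546

/-!
# Node coordinates adapted to an involution
-/

set_option autoImplicit false
set_option linter.style.haveILetI false

universe u

open IsLocalRing

namespace Groth.Agent.ZH85.NodeInvol

variable {T C : Type u} [CommRing T] [IsLocalRing T] [IsNoetherianRing T] [IsAdicComplete (maximalIdeal T) T]
  [CommRing C] [IsLocalRing C] [IsNoetherianRing C] [IsAdicComplete (maximalIdeal C) C]
  [Algebra T C] [IsLocalHom (algebraMap T C)]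

/-- `NodeLib.exists_node` keeping track of an involution. -/
theorem exists_node_equivariant (σ : C ≃ₐ[T] C) (ξ η' h : T) (hξ : ξ * ξ = 1) (hη' : η' * η' = 1) (hh : 2 * h = 1)
    (hres : ∀ c : C, ∃ t : T, c - algebraMap T C t ∈ maximalIdeal C)
    (u v : C) (huv : u * v ∈ (maximalIdeal T).map (algebraMap T C))
    (hgen : maximalIdeal C = Ideal.span {u, v} ⊔ (maximalIdeal T).map (algebraMap T C))
    (hσu : σ u = algebraMap T C ξ * u) (hσv : σ v = algebraMap T C η' * v) (hσσ : ∀ c, σ (σ c) = c) :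
    ∃ (α : T) (ψ : (MvPowerSeries (Fin 2) T ⧸ Ideal.span
        {(MvPowerSeries.X 0 * MvPowerSeries.X 1 - MvPowerSeries.C α : MvPowerSeries (Fin 2) T)}) →ₐ[T] C),
      α ∈ maximalIdeal T ∧ α * (1 - ξ * η') = 0 ∧ Function.Surjective ψ ∧
      σ (ψ (Ideal.Quotient.mk _ (MvPowerSeries.X 0))) =
        algebraMap T C ξ * ψ (Ideal.Quotient.mk _ (MvPowerSeries.X 0)) ∧
      σ (ψ (Ideal.Quotient.mk _ (MvPowerSeries.X 1))) =
        algebraMap T C η' * ψ (Ideal.Quotient.mk _ (MvPowerSeries.X 1)) := by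
  classical
  set M := (maximalIdeal T).map (algebraMap T C) with hM
  have hMm : M ≤ maximalIdeal C := map_maximalIdeal_le (algebraMap T C)
  -- decomposition for any representatives
  have hdec : ∀ u₁ v₁ : C, u₁ - u ∈ M → v₁ - v ∈ M → ∀ c : C, ∃ (t : T) (p q : C),
      c - (algebraMap T C t + u₁ * p + v₁ * q) ∈ M := by
    intro u₁ v₁ h₁ h₂ c
    obtain ⟨t, ht⟩ := hres c
    rw [hgen, Submodule.mem_sup] at ht
    obtain ⟨w, hw, m, hm, hwm⟩ := ht
    obtain ⟨p, q, rfl⟩ := Ideal.mem_span_pair.mp hw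
    refine ⟨t, p, q, ?_⟩
    have : c - (algebraMap T C t + u₁ * p + v₁ * q) = m - p * (u₁ - u) - q * (v₁ - v) := by
      linear_combination -hwm
    rw [this]
    exact sub_mem (sub_mem hm (Ideal.mul_mem_left _ _ h₁)) (Ideal.mul_mem_left _ _ h₂)
  have hσM : ∀ (n : ℕ), ∀ x ∈ M ^ n, σ x ∈ M ^ n := by
    intro n x hx
    have h1 : (M ^ n).map (σ : C →+* C) = M ^ n := by
      rw [hM, ← Ideal.map_pow, Ideal.map_map]
      congr 1
      exact RingHom.ext fun t => σ.commutes t
    rw [← h1]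
    exact Ideal.mem_map_of_mem _ hx
  have hC1 : algebraMap T C ξ * algebraMap T C ξ = 1 := by rw [← map_mul, hξ, map_one]
  have hC2 : algebraMap T C η' * algebraMap T C η' = 1 := by rw [← map_mul, hη', map_one]
  have hCh : 2 * algebraMap T C h = 1 := by rw [← map_ofNat (algebraMap T C) 2, ← map_mul, hh, map_one]
  -- states
  let St : ℕ → T × C × C → Prop := fun n s =>
    (s.1 * (1 - ξ * η') = 0 ∧ σ s.2.1 = algebraMap T C ξ * s.2.1 ∧ σ s.2.2 = algebraMap T C η' * s.2.2) ∧
    s.1 ∈ maximalIdeal T ∧ s.2.1 - u ∈ M ∧ s.2.2 - v ∈ M ∧ s.2.1 * s.2.2 - algebraMap T C s.1 ∈ M ^ (n + 1)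
  have hnext : ∀ (n : ℕ) (s : T × C × C), St n s → ∃ s' : T × C × C, St (n + 1) s' ∧
      s'.1 - s.1 ∈ maximalIdeal T ^ (n + 1) ∧ s'.2.1 - s.2.1 ∈ M ^ (n + 1) ∧ s'.2.2 - s.2.2 ∈ M ^ (n + 1) := by
    rintro n ⟨α, u₁, v₁⟩ ⟨⟨hαξ, hu₁, hv₁⟩, hα, h₁, h₂, hz⟩
    simp only at hαξ hu₁ hv₁
    obtain ⟨a₀, x₀, y₀, ha₀, hx₀, hy₀, hd⟩ := NodeLib.step (hdec u₁ v₁ h₁ h₂) (n + 1) _ hz
    set A := algebraMap T C ξ with hA
    set B := algebraMap T C η' with hB
    set H := algebraMap T C h with hH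
    obtain ⟨a, ha_def⟩ : ∃ a, a = h * (1 + ξ * η') * a₀ := ⟨_, rfl⟩
    obtain ⟨x, hx_def⟩ : ∃ x, x = H * (x₀ + B * σ x₀) := ⟨_, rfl⟩
    obtain ⟨y, hy_def⟩ : ∃ y, y = H * (y₀ + A * σ y₀) := ⟨_, rfl⟩
    have ha : a ∈ maximalIdeal T ^ (n + 1) := by rw [ha_def]; exact Ideal.mul_mem_left _ _ ha₀
    have hx : x ∈ M ^ (n + 1) := by
      rw [hx_def]
      exact Ideal.mul_mem_left _ _ (add_mem hx₀ (Ideal.mul_mem_left _ _ (hσM _ _ hx₀)))
    have hy : y ∈ M ^ (n + 1) := by
      rw [hy_def]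
      exact Ideal.mul_mem_left _ _ (add_mem hy₀ (Ideal.mul_mem_left _ _ (hσM _ _ hy₀)))
    have hσx : σ x = B * x := by
      rw [hx_def, map_mul, map_add, map_mul, hσσ, hH, hB, σ.commutes, σ.commutes]
      linear_combination (-(algebraMap T C h * σ x₀)) * hC2
    have hσy : σ y = A * y := by
      rw [hy_def, map_mul, map_add, map_mul, hσσ, hH, hA, σ.commutes, σ.commutes]
      linear_combination (-(algebraMap T C h * σ y₀)) * hC1
    have haξ : a * (1 - ξ * η') = 0 := by
      rw [ha_def]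
      linear_combination (-h * a₀ * η' * η') * hξ + (-h * a₀) * hη'
    have hαC : algebraMap T C α * (1 - A * B) = 0 := by
      rw [← map_one (algebraMap T C), ← map_mul, ← map_sub, ← map_mul, hαξ, map_zero]
    have h : u₁ * v₁ - algebraMap T C α - (algebraMap T C a + u₁ * x + v₁ * y) ∈ M ^ (n + 1 + 1) := by
      have h' := Ideal.mul_mem_left _ H (add_mem hd (Ideal.mul_mem_left _ (A * B) (hσM _ _ hd)))
      convert h' using 1
      simp only [map_sub, map_mul, map_add, AlgEquiv.commutes, hu₁, hv₁, ha_def, hx_def, hy_def, map_one]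
      simp only [← hA, ← hB, ← hH]
      linear_combination (- u₁ * v₁ + algebraMap T C α) * hCh - H * hαC
        - (H * u₁ * v₁ * B * B - H * u₁ * B * σ x₀) * hC1 - (H * u₁ * v₁ - H * v₁ * A * σ y₀) * hC2
    refine ⟨(α + a, u₁ - y, v₁ - x), ⟨⟨by show (α + a) * _ = 0; rw [add_mul, hαξ, haξ, add_zero],
        by show σ (u₁ - y) = A * (u₁ - y); rw [map_sub, hu₁, hσy, mul_sub],
        by show σ (v₁ - x) = B * (v₁ - x); rw [map_sub, hv₁, hσx, mul_sub]⟩, add_mem hα (Ideal.pow_le_self n.succ_ne_zero ha), ?_, ?_, ?_⟩,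
      by simpa using ha, ?_, ?_⟩
    · show u₁ - y - u ∈ M
      rw [sub_right_comm]; exact sub_mem h₁ (Ideal.pow_le_self n.succ_ne_zero hy)
    · show v₁ - x - v ∈ M
      rw [sub_right_comm]; exact sub_mem h₂ (Ideal.pow_le_self n.succ_ne_zero hx)
    · have hxy : x * y ∈ M ^ (n + 1 + 1) :=
        Ideal.pow_le_pow_right (by omega) ((pow_add M (n + 1) (n + 1)).symm ▸ Ideal.mul_mem_mul hx hy)
      have := add_mem h hxy
      convert this using 1
      show (u₁ - y) * (v₁ - x) - algebraMap T C (α + a) = _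
      rw [map_add]
      ring
    · show u₁ - y - u₁ ∈ M ^ (n + 1)
      rw [sub_sub_cancel_left]; exact neg_mem hy
    · show v₁ - x - v₁ ∈ M ^ (n + 1)
      rw [sub_sub_cancel_left]; exact neg_mem hx
  have h0 : St 0 (0, u, v) := ⟨⟨zero_mul _, hσu, hσv⟩, zero_mem _, by simp, by simp, by simpa using huv⟩
  choose! next hN1 hN2 hN3 hN4 using hnext
  let s : ℕ → T × C × C := fun n => Nat.rec (0, u, v) (fun n p => next n p) n
  have hs : ∀ n, St n (s n) := by
    intro n
    induction n with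
    | zero => exact h0
    | succ n ih => exact hN1 n (s n) ih
  haveI : IsAdicComplete M C := S0546.result C M (maximalIdeal C) hMm
    (IsNoetherian.noetherian _) C
  -- limits
  have lim : ∀ {R : Type u} [CommRing R] (J : Ideal R) [IsAdicComplete J R] (f : ℕ → R),
      (∀ n, f (n + 1) - f n ∈ J ^ (n + 1)) → ∃ L, ∀ n, f n - L ∈ J ^ n := by
    intro R _ J _ f hf
    have hc : ∀ {m n}, m ≤ n → f m ≡ f n [SMOD (J ^ m • ⊤ : Submodule R R)] := by
      intro m n hmn
      rw [SModEq.sub_mem, smul_eq_mul, Ideal.mul_top]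
      induction hmn with
      | refl => simp
      | @step l hml ih =>
        rw [← sub_add_sub_cancel (f m) (f l) (f (l + 1))]
        exact add_mem ih (Ideal.pow_le_pow_right (le_trans hml (Nat.le_succ l)) (by rw [← neg_sub]; exact neg_mem (hf l)))
    obtain ⟨L, hL⟩ := IsPrecomplete.prec' (I := J) f hc
    exact ⟨L, fun n => by simpa [SModEq.sub_mem, smul_eq_mul] using hL n⟩
  obtain ⟨α, hα⟩ := lim (maximalIdeal T) (fun n => (s n).1) fun n => hN2 n _ (hs n)
  obtain ⟨u', hu'⟩ := lim M (fun n => (s n).2.1) fun n => hN3 n _ (hs n)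
  obtain ⟨v', hv'⟩ := lim M (fun n => (s n).2.2) fun n => hN4 n _ (hs n)
  have hαm : α ∈ maximalIdeal T := by
    have h := hα 1
    rw [pow_one] at h
    have := sub_mem (hs 1).2.1 h
    simpa using this
  have hu'u : u' - u ∈ M := by
    have h := hu' 1
    rw [pow_one] at h
    have := sub_mem (hs 1).2.2.1 h
    simpa using this
  have hv'v : v' - v ∈ M := by
    have h := hv' 1
    rw [pow_one] at h
    have := sub_mem (hs 1).2.2.2.1 h
    simpa using this
  have hprod : u' * v' = algebraMap T C α := by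
    rw [← sub_eq_zero]
    refine IsHausdorff.haus' (I := M) _ fun n => ?_
    rw [SModEq.zero, smul_eq_mul, Ideal.mul_top]
    have e4 : algebraMap T C ((s n).1 - α) ∈ M ^ n := by
      rw [hM, ← Ideal.map_pow]; exact Ideal.mem_map_of_mem _ (hα n)
    have e1 : (s n).2.1 * (s n).2.2 - algebraMap T C (s n).1 ∈ M ^ n :=
      Ideal.pow_le_pow_right n.le_succ (hs n).2.2.2.2
    have := add_mem (sub_mem (sub_mem e1 (Ideal.mul_mem_right (s n).2.2 _ (hu' n)))
      (Ideal.mul_mem_left _ u' (hv' n))) e4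
    convert this using 1
    rw [map_sub]
    ring
  have hαξ : α * (1 - ξ * η') = 0 := by
    refine IsHausdorff.haus' (I := maximalIdeal T) _ fun n => ?_
    rw [SModEq.zero, smul_eq_mul, Ideal.mul_top]
    have h1 := Ideal.mul_mem_right (1 - ξ * η') _ (hα n)
    rw [sub_mul, (hs n).1.1, zero_sub] at h1
    exact neg_mem_iff.1 h1
  have hσu' : σ u' = algebraMap T C ξ * u' := by
    rw [← sub_eq_zero]
    refine IsHausdorff.haus' (I := M) _ fun n => ?_
    rw [SModEq.zero, smul_eq_mul, Ideal.mul_top]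
    have h1 := sub_mem (Ideal.mul_mem_left _ (algebraMap T C ξ) (hu' n)) (hσM _ _ (hu' n))
    convert h1 using 1
    rw [map_sub, (hs n).1.2.1]
    ring
  have hσv' : σ v' = algebraMap T C η' * v' := by
    rw [← sub_eq_zero]
    refine IsHausdorff.haus' (I := M) _ fun n => ?_
    rw [SModEq.zero, smul_eq_mul, Ideal.mul_top]
    have h1 := sub_mem (Ideal.mul_mem_left _ (algebraMap T C η') (hv' n)) (hσM _ _ (hv' n))
    convert h1 using 1
    rw [map_sub, (hs n).1.2.2]
    ring
  -- the map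
  have hum : u ∈ maximalIdeal C := hgen ▸ Ideal.mem_sup_left (Ideal.subset_span (by simp))
  have hvm : v ∈ maximalIdeal C := hgen ▸ Ideal.mem_sup_left (Ideal.subset_span (by simp))
  have hu'm : u' ∈ maximalIdeal C := by simpa using add_mem (hMm hu'u) hum
  have hv'm : v' ∈ maximalIdeal C := by simpa using add_mem (hMm hv'v) hvm
  obtain ⟨φ, hφ⟩ := PSLib.exists_algHom (R := T) (maximalIdeal C) ![u', v'] (by
    intro i; fin_cases i <;> simp [hu'm, hv'm])
  have hφ0 : φ (MvPowerSeries.X 0) = u' := by simpa using hφ 0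
  have hφ1 : φ (MvPowerSeries.X 1) = v' := by simpa using hφ 1
  let J : Ideal C := Ideal.span {u', v'}
  have hJm : J ≤ maximalIdeal C := Ideal.span_le.mpr (by simp [Set.insert_subset_iff, hu'm, hv'm])
  have hmC : maximalIdeal C = J ⊔ M := by
    refine le_antisymm ?_ (sup_le hJm hMm)
    rw [hgen]
    refine sup_le (Ideal.span_le.mpr ?_) le_sup_right
    rintro x (rfl | rfl)
    · rw [SetLike.mem_coe, ← sub_sub_cancel u' x]
      exact sub_mem (Ideal.mem_sup_left (Ideal.subset_span (by simp))) (Ideal.mem_sup_right hu'u)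
    · rw [SetLike.mem_coe, ← sub_sub_cancel v' x]
      exact sub_mem (Ideal.mem_sup_left (Ideal.subset_span (by simp))) (Ideal.mem_sup_right hv'v)
  haveI : Nontrivial (C ⧸ J) := Ideal.Quotient.nontrivial_iff.mpr
    (fun h => (maximalIdeal.isMaximal C).ne_top (top_le_iff.mp (h ▸ hJm)))
  haveI : IsLocalRing (C ⧸ J) := IsLocalRing.of_surjective' (Ideal.Quotient.mk J) Ideal.Quotient.mk_surjective
  have hMJ : (maximalIdeal T).map ((Ideal.Quotient.mk J).comp (algebraMap T C)) = maximalIdeal (C ⧸ J) := by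
    rw [← Ideal.map_map, ← map_maximalIdeal_of_surjective _ (Ideal.Quotient.mk_surjective (I := J)), hmC,
      Ideal.map_sup, Ideal.map_quotient_self, bot_sup_eq]
  haveI : IsHausdorff (maximalIdeal (C ⧸ J)) (C ⧸ J) := by
    constructor
    intro x hx
    rw [← Ideal.mem_bot, ← Ideal.iInf_pow_eq_bot_of_isLocalRing (maximalIdeal (C ⧸ J))
      (maximalIdeal.isMaximal _).ne_top, Submodule.mem_iInf]
    exact fun n => by simpa [SModEq.zero, smul_eq_mul] using hx n
  have hTJ : Function.Surjective ((Ideal.Quotient.mk J).comp (algebraMap T C)) :=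
    PSLib.surjective_of_first_order _ (I := maximalIdeal T) (J := maximalIdeal (C ⧸ J))
      (IsNoetherian.noetherian _) (IsLocalRing.maximalIdeal_le_jacobson _) hMJ.le (le_sup_of_le_left hMJ.ge)
      fun b => by
        obtain ⟨c, rfl⟩ := Ideal.Quotient.mk_surjective b
        obtain ⟨t, ht⟩ := hres c
        refine ⟨t, ?_⟩
        rw [RingHom.comp_apply, ← map_sub, ← map_maximalIdeal_of_surjective _ (Ideal.Quotient.mk_surjective (I := J))]
        exact Ideal.mem_map_of_mem _ ht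
  haveI : IsHausdorff J C := by
    constructor
    intro x hx
    rw [← Ideal.mem_bot, ← Ideal.iInf_pow_eq_bot_of_isLocalRing J
      (fun h => (maximalIdeal.isMaximal C).ne_top (top_le_iff.mp (h ▸ hJm))), Submodule.mem_iInf]
    exact fun n => by simpa [SModEq.zero, smul_eq_mul] using hx n
  have hvJ : (PSLib.vars 2 T).map φ.toRingHom = J := by
    rw [PSLib.vars, Ideal.map_span, ← Set.range_comp]
    congr 1
    ext x
    simp [Fin.exists_fin_two, hφ0, hφ1, eq_comm]
  have hφs : Function.Surjective φ.toRingHom :=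
    PSLib.surjective_of_first_order φ.toRingHom (I := PSLib.vars 2 T) (J := J)
      (IsNoetherian.noetherian _) (hJm.trans (IsLocalRing.maximalIdeal_le_jacobson _)) hvJ.le
      (le_sup_of_le_left hvJ.ge) fun c => by
        obtain ⟨t, ht⟩ := hTJ (Ideal.Quotient.mk J c)
        refine ⟨algebraMap T _ t, ?_⟩
        show c - φ (algebraMap T _ t) ∈ J
        rw [φ.commutes, ← Ideal.Quotient.eq]
        exact ht.symm
  have hkill : ∀ x ∈ Ideal.span
      {(MvPowerSeries.X 0 * MvPowerSeries.X 1 - MvPowerSeries.C α : MvPowerSeries (Fin 2) T)}, φ x = 0 := by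
    intro x hx
    obtain ⟨y, rfl⟩ := Ideal.mem_span_singleton'.mp hx
    rw [map_mul, map_sub, map_mul, hφ0, hφ1, hprod,
      show (MvPowerSeries.C α : MvPowerSeries (Fin 2) T) = algebraMap T _ α from rfl, φ.commutes, sub_self, mul_zero]
  refine ⟨α, Ideal.Quotient.liftₐ _ φ hkill, hαm, hαξ,
    Ideal.Quotient.lift_surjective_of_surjective _ _ hφs, ?_, ?_⟩
  · show σ (φ (MvPowerSeries.X 0)) = algebraMap T C ξ * φ (MvPowerSeries.X 0)
    rw [hφ0]; exact hσu'
  · show σ (φ (MvPowerSeries.X 1)) = algebraMap T C η' * φ (MvPowerSeries.X 1)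
    rw [hφ1]; exact hσv'

end Groth.Agent.ZH85.NodeInvol
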