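import Groth.Agent.LocSymLib.PicMod
import Mathlib.RingTheory.RootsOfUnity.EnoughRootsOfUnity
import Mathlib.RingTheory.RootsOfUnity.AlgebraicallyClosed
import Mathlib.SetTheory.Cardinal.Finite

/-! Torsion in the generalised Picard group of a reduced modulus. -/

noncomputable section

set_option linter.unusedSectionVars false
set_option linter.style.haveILetI false

universe u

open CategoryTheory AlgebraicGeometry W4c1etcurveeff2

namespace Groth.Agent.ZH85

open Groth.Agent.LocSymLib

variable {k : Type u} [Field k] [IsAlgClosed k] {X : Scheme.{u}} [IsIntegral X]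
  {c : X ⟶ Spec (CommRingCat.of k)} [IsProper c] [Smooth c]
  (hdim : topologicalKrullDim X = 1) {m : LocSym.Pt c →₀ ℕ} (hm : ∀ x : LocSym.Pt c, m x ≤ 1)

include hdim hm

/-- The class of a function with prescribed values on the modulus. -/
def valCls (v : LocSym.Pt c → kˣ) : PicMod c m :=
  (QuotientAddGroup.mk (exists_fun_values (m := m) hdim v).choose_spec.choose : PicMod c m)

theorem valCls_eq {v : LocSym.Pt c → kˣ} {D : divAway c m} {g : X.functionField}
    (hg : IsDivOf c (D : LocSym.Pt c →₀ ℤ) g)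
    (hgv : ∀ x ∈ m.support, LocSym.HasValueAt x g (v x : k)) :
    valCls (m := m) hdim v = (QuotientAddGroup.mk D : PicMod c m) :=
  mk_eq_of_values hdim hm (exists_fun_values (m := m) hdim v).choose_spec.choose_spec.1 hg
    (exists_fun_values (m := m) hdim v).choose_spec.choose_spec.2 hgv

theorem valCls_eq_zero_iff (v : LocSym.Pt c → kˣ) :
    valCls (m := m) hdim v = 0 ↔ ∃ a : kˣ, ∀ x ∈ m.support, v x = a :=
  mk_eq_zero_iff hdim hm (exists_fun_values (m := m) hdim v).choose_spec.choose_spec.1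
    (exists_fun_values (m := m) hdim v).choose_spec.choose_spec.2

theorem valCls_nsmul (v : LocSym.Pt c → kˣ) (n : ℕ) :
    valCls (m := m) hdim (v ^ n) = n • valCls (m := m) hdim v := by
  obtain ⟨g, D, hg, hv⟩ := exists_fun_values (m := m) hdim v
  rw [valCls_eq hdim hm hg hv, ← QuotientAddGroup.mk_nsmul]
  refine valCls_eq hdim hm (g := g ^ n) (isDivOf_pow hdim hg n) fun x hx => ?_
  rw [Pi.pow_apply, Units.val_pow_eq_pow_val]
  exact value_pow c hdim x (hv x hx) n

theorem valCls_div (v w : LocSym.Pt c → kˣ) :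
    valCls (m := m) hdim (v / w) = valCls (m := m) hdim v - valCls (m := m) hdim w := by
  obtain ⟨g, D, hg, hv⟩ := exists_fun_values (m := m) hdim v
  obtain ⟨h, E, hh, hw⟩ := exists_fun_values (m := m) hdim w
  rw [valCls_eq hdim hm hg hv, valCls_eq hdim hm hh hw, ← QuotientAddGroup.mk_sub]
  refine valCls_eq hdim hm (g := g / h) (isDivOf_div hdim hg hh) fun x hx => ?_
  rw [Pi.div_apply, Units.val_div_eq_div_val]
  exact value_div c hdim x (w x).ne_zero (hv x hx) (hw x hx)

theorem picModToPic_valCls (v : LocSym.Pt c → kˣ) :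
    picModToPic c m (valCls (m := m) hdim v) = 0 := by
  obtain ⟨g, D, hg, hv⟩ := exists_fun_values (m := m) hdim v
  exact (picModToPic_eq_zero_iff hdim _).2 ⟨g, D, v, hg, hv, valCls_eq hdim hm hg hv⟩

theorem exists_valCls_of_map_eq_zero {y : PicMod c m} (hy : picModToPic c m y = 0) :
    ∃ v, valCls (m := m) hdim v = y := by
  obtain ⟨g, D, v, hg, hv, rfl⟩ := (picModToPic_eq_zero_iff hdim y).1 hy
  exact ⟨v, valCls_eq hdim hm hg hv⟩

theorem picMod_torsion_onto {n : ℕ} (hn : 1 ≤ n) (y : Pic c) (hy : n • y = 0) :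
    ∃ x : PicMod c m, n • x = 0 ∧ picModToPic c m x = y := by
  obtain ⟨x, rfl⟩ := picModToPic_surjective (m := m) hdim y
  obtain ⟨v, hv⟩ := exists_valCls_of_map_eq_zero hdim hm (y := n • x) (by rw [map_nsmul, hy])
  choose w hw using fun z : LocSym.Pt c => IsAlgClosed.exists_pow_nat_eq ((v z : k)) (Nat.pos_of_ne_zero (by omega) : 0 < n)
  have hw0 : ∀ z, w z ≠ 0 := fun z e => (v z).ne_zero (by rw [← hw z, e, zero_pow (by omega)])
  refine ⟨x - valCls (m := m) hdim (fun z => Units.mk0 (w z) (hw0 z)), ?_, by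
    rw [map_sub, picModToPic_valCls hdim hm, sub_zero]⟩
  rw [nsmul_sub, ← valCls_nsmul hdim hm, ← hv, sub_eq_zero]
  congr 1
  funext z
  exact Units.ext (by simp [hw z])

theorem card_ker_torsion {n : ℕ} (hn : 1 ≤ n) (hnk : (n : k) ≠ 0) :
    Nat.card {x : PicMod c m // n • x = 0 ∧ picModToPic c m x = 0} = n ^ (m.support.card - 1) := by
  classical
  haveI : NeZero n := ⟨by omega⟩
  haveI : NeZero (n : k) := ⟨hnk⟩
  rcases m.support.eq_empty_or_nonempty with h0 | ⟨x₀, hx₀⟩
  · haveI : Subsingleton {x : PicMod c m // n • x = 0 ∧ picModToPic c m x = 0} := by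
      refine ⟨fun a b => ?_⟩
      have key : ∀ z : {x : PicMod c m // n • x = 0 ∧ picModToPic c m x = 0}, z.1 = 0 := fun z => by
        obtain ⟨v, hv⟩ := exists_valCls_of_map_eq_zero hdim hm z.2.2
        rw [← hv, valCls_eq_zero_iff hdim hm]
        exact ⟨1, fun x hx => by simp [h0] at hx⟩
      exact Subtype.ext ((key a).trans (key b).symm)
    haveI : Nonempty {x : PicMod c m // n • x = 0 ∧ picModToPic c m x = 0} := ⟨⟨0, by simp, by simp⟩⟩
    rw [h0, Finset.card_empty, Nat.zero_sub, pow_zero, Nat.card_eq_one_iff_unique]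
    exact ⟨inferInstance, inferInstance⟩
  set S' := m.support.erase x₀
  let ext' : (↥S' → rootsOfUnity n k) → LocSym.Pt c → kˣ :=
    fun ζ z => if h : z ∈ S' then (ζ ⟨z, h⟩ : kˣ) else 1
  have hext : ∀ ζ, ext' ζ ^ n = 1 := fun ζ => by
    funext z
    simp only [Pi.pow_apply, Pi.one_apply, ext']
    split_ifs with h
    · exact (mem_rootsOfUnity n _).1 (ζ ⟨z, h⟩).2
    · exact one_pow n
  let F : (↥S' → rootsOfUnity n k) → {x : PicMod c m // n • x = 0 ∧ picModToPic c m x = 0} :=
    fun ζ => ⟨valCls (m := m) hdim (ext' ζ), by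
      rw [← valCls_nsmul hdim hm, hext, valCls_eq_zero_iff hdim hm]
      exact ⟨1, fun _ _ => rfl⟩, picModToPic_valCls hdim hm _⟩
  have hF : Function.Bijective F := by
    constructor
    · intro ζ ξ h
      have h1 : valCls (m := m) hdim (ext' ζ / ext' ξ) = 0 := by
        rw [valCls_div hdim hm, sub_eq_zero]; exact congrArg Subtype.val h
      obtain ⟨a, ha⟩ := (valCls_eq_zero_iff hdim hm _).1 h1
      have ha1 : a = 1 := by
        rw [← ha x₀ hx₀]
        simp [ext', S']
      funext ⟨z, hz⟩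
      have h2 := ha z (Finset.mem_of_mem_erase hz)
      rw [ha1, Pi.div_apply, div_eq_one] at h2
      simp only [ext', dif_pos hz] at h2
      exact Subtype.ext h2
    · rintro ⟨x, hx, hx'⟩
      obtain ⟨v, rfl⟩ := exists_valCls_of_map_eq_zero hdim hm hx'
      rw [← valCls_nsmul hdim hm, valCls_eq_zero_iff hdim hm] at hx
      obtain ⟨a, ha⟩ := hx
      refine ⟨fun z => ⟨v z.1 / v x₀, ?_⟩, Subtype.ext ?_⟩
      · rw [mem_rootsOfUnity, div_pow, ← Pi.pow_apply, ← Pi.pow_apply,
          ha _ (Finset.mem_of_mem_erase z.2), ha _ hx₀, div_self']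
      · show valCls (m := m) hdim _ = valCls (m := m) hdim v
        rw [← sub_eq_zero, ← valCls_div hdim hm, valCls_eq_zero_iff hdim hm]
        refine ⟨(v x₀)⁻¹, fun z hz => ?_⟩
        rcases eq_or_ne z x₀ with rfl | hne
        · simp [ext', S']
        · have : z ∈ S' := Finset.mem_erase.2 ⟨hne, hz⟩
          simp [ext', this]
  rw [← Nat.card_congr (Equiv.ofBijective F hF), Nat.card_fun, Nat.card_eq_finsetCard,
    HasEnoughRootsOfUnity.natCard_rootsOfUnity, Finset.card_erase_of_mem hx₀]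

end Groth.Agent.ZH85
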